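import Groth.Agent.Chow17.Main
import Mathlib.AlgebraicGeometry.Morphisms.SchemeTheoreticallyDominant
import Mathlib.AlgebraicGeometry.Morphisms.Proper
import Mathlib.AlgebraicGeometry.FunctionField
import Groth.Agent.Triage.SchDense

/-!
# Modifications containing given quasi-modifications
-/

set_option autoImplicit false
set_option backward.isDefEq.respectTransparency false
set_option backward.isDefEq.respectTransparency.types false
set_option linter.style.haveILetI false

universe u

open CategoryTheory CategoryTheory.Limits AlgebraicGeometry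

namespace Groth.Agent.KbMod

variable {K : Type u} [Field K]

theorem isIntegral_of_dominant_point {T : Scheme.{u}} (t : Spec (CommRingCat.of K) ⟶ T)
    [IsSchemeTheoreticallyDominant t] [QuasiCompact t] : IsIntegral T := by
  haveI : IsReduced T := IsSchemeTheoreticallyDominant.isReduced t
  haveI : IrreducibleSpace T := by
    have h : IsIrreducible (Set.univ : Set T) := by
      rw [← t.denseRange.closure_eq, isIrreducible_iff_closure, ← Set.image_univ]
      exact (IrreducibleSpace.isIrreducible_univ _).image _ t.continuous.continuousOn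
    haveI : Nonempty T := ⟨h.1.choose⟩
    exact { isPreirreducible_univ := h.2, toNonempty := ⟨h.1.choose⟩ }
  exact isIntegral_of_irreducibleSpace_of_isReduced T

theorem mem_of_dominant_point {T : Scheme.{u}} (t : Spec (CommRingCat.of K) ⟶ T) [IsDominant t]
    (U : T.Opens) (hU : (U : Set T).Nonempty) (x : ↥(Spec (CommRingCat.of K))) : t x ∈ U := by
  obtain ⟨_, hy, y, rfl⟩ := t.denseRange.inter_open_nonempty _ U.2 hU
  rwa [Subsingleton.elim y x] at hy

/-- A lift of a dominant point through a morphism which is an isomorphism over a dense open. -/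
theorem exists_point_lift {T T' : Scheme.{u}} (t : Spec (CommRingCat.of K) ⟶ T) [IsDominant t]
    (π : T' ⟶ T) (U : T.Opens) (hU : Dense (U : Set T)) [IsIso (π ∣_ U)] :
    ∃ t' : Spec (CommRingCat.of K) ⟶ T', t' ≫ π = t := by
  have hne : (U : Set T).Nonempty := by
    haveI : Nonempty T := ⟨t default⟩
    exact hU.nonempty
  let a : Spec (CommRingCat.of K) ⟶ U.toScheme := IsOpenImmersion.lift U.ι t (by
    rw [Scheme.Opens.range_ι]
    rintro _ ⟨x, rfl⟩
    exact mem_of_dominant_point t U hne x)
  refine ⟨a ≫ inv (π ∣_ U) ≫ (π ⁻¹ᵁ U).ι, ?_⟩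
  rw [Category.assoc, Category.assoc, ← morphismRestrict_ι, IsIso.inv_hom_id_assoc, IsOpenImmersion.lift_fac]

theorem exists_modification {S : Scheme.{u}} [CompactSpace S] [QuasiSeparatedSpace S]
    (ηb : Spec (CommRingCat.of K) ⟶ S) (m : ℕ) (T : Fin m → Scheme.{u})
    (t : ∀ i, Spec (CommRingCat.of K) ⟶ T i)
    (p : ∀ i, T i ⟶ S) [∀ i, IsSchemeTheoreticallyDominant (t i)] [∀ i, IsSeparated (p i)]
    [∀ i, LocallyOfFiniteType (p i)] [∀ i, QuasiCompact (p i)] (hp : ∀ i, t i ≫ p i = ηb) :
    ∃ (S' : Scheme.{u}) (s : Spec (CommRingCat.of K) ⟶ S') (q : S' ⟶ S),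
      IsSchemeTheoreticallyDominant s ∧ IsProper q ∧ s ≫ q = ηb ∧
      ∀ i, ∃ (V : S'.Opens) (v : Spec (CommRingCat.of K) ⟶ (V : Scheme.{u}))
        (r : (V : Scheme.{u}) ⟶ T i),
        v ≫ V.ι = s ∧ IsProper r ∧ v ≫ r = t i ∧ r ≫ p i = V.ι ≫ q := by
  haveI : ∀ i, QuasiSeparatedSpace (T i) := fun i => quasiSeparatedSpace_of_quasiSeparated (p i)
  haveI : ∀ i, QuasiCompact (t i) := fun i => quasiCompact_of_compactSpace (t i)
  haveI : ∀ i, IsIntegral (T i) := fun i => isIntegral_of_dominant_point (t i)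
  have hfin : ∀ i, (irreducibleComponents (T i : Type u)).Finite := fun i => by
    rw [irreducibleComponents_eq_singleton]; exact Set.finite_singleton _
  choose n X' π j hj hjc hπ hs U hU hiso using fun i => Chow17.chow_finite_components (p i) (hfin i)
  choose t' ht' using fun i => haveI := hiso i; exists_point_lift (t i) (π i) (U i) (hU i)
  obtain ⟨Q, r, pr, -, hr, hpr, huniv⟩ := Chow17.exists_product m (fun i => CohB1.ProjSpaceOver (n i) S)
    (fun i => CohB1.ProjSpaceOver.toBase (n i) S)
    (fun i => ⟨n i, 𝟙 _, inferInstance, Category.id_comp _⟩) (fun i => inferInstance)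
  obtain ⟨w, hw, hw'⟩ := huniv _ ηb (fun i => t' i ≫ j i) fun i => by
    rw [Category.assoc, hjc i, reassoc_of% ht' i, hp i]
  haveI := hr
  haveI : QuasiSeparatedSpace Q := quasiSeparatedSpace_of_quasiSeparated r
  haveI : QuasiCompact w := quasiCompact_of_compactSpace w
  have hdom : IsSchemeTheoreticallyDominant w.toImage :=
    Triage.SchDense.isSchemeTheoreticallyDominant_toImage w
  haveI : IsIntegral w.image := isIntegral_of_dominant_point w.toImage
  refine ⟨w.image, w.toImage, w.imageι ≫ r, hdom, inferInstance, by rw [w.toImage_imageι_assoc, hw], fun i => ?_⟩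
  haveI := hj i
  haveI := hπ i
  let g : w.image ⟶ CohB1.ProjSpaceOver (n i) S := w.imageι ≫ pr i
  haveI : IsProper g := by
    haveI : IsProper (g ≫ CohB1.ProjSpaceOver.toBase (n i) S) := by
      simp only [g, Category.assoc, hpr]; infer_instance
    exact IsProper.of_comp g (CohB1.ProjSpaceOver.toBase (n i) S)
  let W := (j i).coborderRange
  have hsV : ∀ x, w.toImage x ∈ g ⁻¹ᵁ W := fun x => by
    show g (w.toImage x) ∈ W
    rw [← Scheme.Hom.comp_apply, show w.toImage ≫ g = t' i ≫ j i by simp [g, hw'], Scheme.Hom.comp_apply]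
    exact subset_coborder ⟨_, rfl⟩
  let v : Spec (CommRingCat.of K) ⟶ (g ⁻¹ᵁ W).toScheme := IsOpenImmersion.lift (g ⁻¹ᵁ W).ι w.toImage (by
    rw [Scheme.Opens.range_ι]; rintro _ ⟨x, rfl⟩; exact hsV x)
  have hv : v ≫ (g ⁻¹ᵁ W).ι = w.toImage := IsOpenImmersion.lift_fac _ _ _
  haveI : IsDominant v := by
    rw [isDominant_iff]
    haveI : IsDominant w.toImage := inferInstance
    intro y
    rw [(g ⁻¹ᵁ W).ι.isEmbedding.closure_eq_preimage_closure_image, ← Set.range_comp]
    show (g ⁻¹ᵁ W).ι y ∈ closure (Set.range ((g ⁻¹ᵁ W).ι ∘ v))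
    rw [← TopCat.coe_comp, ← Scheme.Hom.comp_base, hv]
    exact w.toImage.denseRange _
  haveI : IsSchemeTheoreticallyDominant v := IsSchemeTheoreticallyDominant.of_isDominant v
  obtain ⟨h, hh⟩ := Chow17.exists_lift v (j i).liftCoborder (g ∣_ W) (t' i) (by
    rw [← cancel_mono W.ι, Category.assoc, Category.assoc, Scheme.Hom.liftCoborder_ι, morphismRestrict_ι,
      reassoc_of% hv]
    simp [g, hw'])
  haveI : IsProper h := by
    haveI : IsProper (h ≫ (j i).liftCoborder) := by
      rw [hh]; exact IsZariskiLocalAtTarget.restrict (P := @IsProper) ‹IsProper g› W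
    exact IsProper.of_comp h (j i).liftCoborder
  have hhj : h ≫ j i = (g ⁻¹ᵁ W).ι ≫ g := by
    rw [← morphismRestrict_ι, ← hh, Category.assoc, Scheme.Hom.liftCoborder_ι]
  refine ⟨g ⁻¹ᵁ W, v, h ≫ π i, hv, inferInstance, ?_, ?_⟩
  · have : v ≫ h = t' i := by
      rw [← cancel_mono (j i), Category.assoc, hhj, reassoc_of% hv]
      simp [g, hw']
    rw [reassoc_of% this, ht']
  · rw [Category.assoc, ← hjc i, reassoc_of% hhj]
    simp [g, hpr]

end Groth.Agent.KbMod
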